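import Groth.Agent.H7Weight.Chart
import Groth.Agent.H06EGA9.FibreMap

/-! Openness of base changes of a locally quasi-finite morphism from finitely many finite charts:
at points of a chart whose fibre has a single geometric point, openness of the base change follows
from openness of the image of the chart. -/

set_option autoImplicit false
set_option backward.isDefEq.respectTransparency false
set_option linter.style.haveILetI false

universe u

open CategoryTheory Limits AlgebraicGeometry Topology TopologicalSpace
open Groth.Agent.H7Weight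

namespace Groth.Agent.H8Props.UnivOpen

variable {T S : Scheme.{u}} {a : T ⟶ S}

/-- Points of the base of a finite morphism over which there is at most one geometric point. -/
def radLocus {U V : Scheme.{u}} (π : U ⟶ V) : Set V :=
  {v | (pullback.fst π π ≫ π) ⁻¹' {v} ⊆ Set.range (pullback.diagonal π)}

theorem isLocallyConstructible_radLocus {U V : Scheme.{u}} (π : U ⟶ V) [IsFinite π]
    [LocallyOfFinitePresentation π] : IsLocallyConstructible (radLocus π) := by
  refine Groth.Agent.H06EGA9.isLocallyConstructible_setOf_fibre_subset _ ?_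
  haveI : LocallyOfFinitePresentation (pullback.diagonal π) := Groth.Agent.S4599.result π
  rw [← Set.image_univ]
  exact (pullback.diagonal π).isLocallyConstructible_image .univ

/-- Over the radicial locus base changes have at most one point in each fibre. -/
theorem eq_of_mem_radLocus {U V V' : Scheme.{u}} (π : U ⟶ V) (e : V' ⟶ V) (v : V')
    (hv : e v ∈ radLocus π) (p q : ↥(pullback π e)) (hp : pullback.snd π e p = v)
    (hq : pullback.snd π e q = v) : p = q := by
  obtain ⟨w, hw₁, hw₂⟩ := Scheme.Pullback.exists_preimage_pullback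
    (f := pullback.snd π e) (g := pullback.snd π e) p q (hp.trans hq.symm)
  let M : pullback (pullback.snd π e) (pullback.snd π e) ⟶ pullback π π :=
    pullback.map _ _ _ _ (pullback.fst π e) (pullback.fst π e) e pullback.condition.symm
      pullback.condition.symm
  have hMv : (pullback.fst π π ≫ π) (M w) = e v := by
    rw [← Scheme.Hom.comp_apply]
    have : M ≫ pullback.fst π π ≫ π =
        (pullback.fst (pullback.snd π e) (pullback.snd π e) ≫ pullback.snd π e) ≫ e := by
      simp [M, pullback.condition]
    rw [this, Scheme.Hom.comp_apply, Scheme.Hom.comp_apply, hw₁, hp]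
  obtain ⟨x, hx⟩ := hv hMv
  obtain ⟨z, -, hz⟩ := Scheme.Pullback.exists_preimage_pullback
    (f := pullback.diagonal π) (g := M) x w hx
  let j := pullback.snd (pullback.diagonal π) M
  have hj : j ≫ pullback.fst (pullback.snd π e) (pullback.snd π e) =
      j ≫ pullback.snd (pullback.snd π e) (pullback.snd π e) := by
    apply pullback.hom_ext
    · have h1 := congrArg (fun m => m ≫ pullback.fst π π) (pullback.condition (f := pullback.diagonal π) (g := M))
      have h2 := congrArg (fun m => m ≫ pullback.snd π π) (pullback.condition (f := pullback.diagonal π) (g := M))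
      simp only [M, Category.assoc, pullback.lift_fst, pullback.lift_snd, pullback.diagonal_fst,
        pullback.diagonal_snd, Category.comp_id] at h1 h2
      rw [Category.assoc, Category.assoc]
      exact h1.symm.trans h2
    · rw [Category.assoc, Category.assoc, pullback.condition]
  have := congrArg (fun m : _ ⟶ pullback π e => m z) hj
  simp only [Scheme.Hom.comp_apply] at this
  rw [hz] at this
  exact hw₁.symm.trans (this.trans hw₂)

/-- Every point lies in a chart over an affine étale neighbourhood, above its radicial locus. -/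
theorem exists_chart [LocallyQuasiFinite a] [LocallyOfFiniteType a] (x : T) :
    ∃ (V : Scheme.{u}) (_ : IsAffine V) (g : V ⟶ S) (_ : Etale g) (C : Chart a g),
      x ∈ C.a '' (C.π ⁻¹' radLocus C.π) := by
  obtain ⟨η, hη⟩ := exists_geomPt (a x)
  obtain ⟨s, hs⟩ := exists_pts a η x hη.symm
  obtain ⟨V₀, g₀, _, η₀, -, ⟨D₀⟩⟩ := exists_single a η s
  obtain ⟨_, ⟨(W : V₀.Opens), (hW : IsAffineOpen W), rfl⟩, hxW, -⟩ :=
    V₀.isBasis_affineOpens.exists_subset_of_mem_open (Set.mem_univ (pt η₀)) isOpen_univ
  have hr : Set.range η₀ ⊆ Set.range W.ι := by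
    rw [Scheme.Opens.range_ι]
    rintro _ ⟨k, rfl⟩
    rw [show k = IsLocalRing.closedPoint _ from Subsingleton.elim _ _]
    exact hxW
  let η₁ := IsOpenImmersion.lift W.ι η₀ hr
  let D := D₀.baseChange W.ι (η'' := η₁) (IsOpenImmersion.lift_fac _ _ _)
  haveI : IsAffine W.toScheme := hW
  refine ⟨W.toScheme, inferInstance, W.ι ≫ g₀, inferInstance, D.C, pt D.p.1, ?_, ?_⟩
  · intro z hz
    obtain ⟨q, hq⟩ := exists_pts (pullback.fst D.C.π D.C.π ≫ D.C.π) η₁ z
      ((show (pullback.fst D.C.π D.C.π ≫ D.C.π) z = D.C.π (pt D.p.1) from hz).trans D.p.map_pt)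
    have e1 : (⟨q.1 ≫ pullback.fst _ _, by rw [Category.assoc]; exact q.2⟩ : Pts D.C.π η₁) = D.p :=
      D.unique _
    have e2 : (⟨q.1 ≫ pullback.snd _ _, by
        rw [Category.assoc, ← pullback.condition]; exact q.2⟩ : Pts D.C.π η₁) = D.p :=
      D.unique _
    refine ⟨pt D.p.1, ?_⟩
    rw [← hq, ← pt_comp]
    congr 1
    apply pullback.hom_ext
    · rw [Category.assoc, pullback.diagonal_fst, Category.comp_id]
      exact (congrArg Subtype.val e1).symm
    · rw [Category.assoc, pullback.diagonal_snd, Category.comp_id]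
      exact (congrArg Subtype.val e2).symm
  · rw [← pt_comp, D.p_a, hs]

/-- Openness of a base change from charts. -/
theorem isOpenMap_snd_of_charts {B : Scheme.{u}} (b : B ⟶ S) {κ : Type*} (V : κ → Scheme.{u})
    (g : ∀ k, V k ⟶ S) [∀ k, Etale (g k)] (C : ∀ k, Chart a (g k))
    (hcov : ∀ t : T, ∃ k, t ∈ (C k).a '' ((C k).π ⁻¹' radLocus (C k).π))
    (hopen : ∀ k, IsOpen (pullback.fst (g k) b ⁻¹' Set.range (C k).π)) :
    IsOpenMap (pullback.snd a b) := by
  rw [isOpenMap_iff_nhds_le]
  intro w N hN
  rw [Filter.mem_map, mem_nhds_iff] at hN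
  obtain ⟨O, hOsub, hO, hwO⟩ := hN
  obtain ⟨k, u, hu, hua⟩ := hcov (pullback.fst a b w)
  let e := pullback.fst (g k) b
  let π' := pullback.snd (C k).π e
  let A : pullback (C k).π e ⟶ pullback a b :=
    pullback.lift (pullback.fst _ _ ≫ (C k).a) (π' ≫ pullback.snd (g k) b) (by
      rw [Category.assoc, (C k).w, pullback.condition_assoc, Category.assoc, pullback.condition])
  obtain ⟨q, hq₁, hq₂⟩ := Scheme.Pullback.exists_preimage_pullback
    (f := (C k).a) (g := pullback.fst a b) u w hua
  let m : pullback (C k).a (pullback.fst a b) ⟶ pullback (C k).π e :=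
    pullback.lift (pullback.fst _ _) (pullback.lift (pullback.fst _ _ ≫ (C k).π)
      (pullback.snd _ _ ≫ pullback.snd a b) (by
        rw [Category.assoc, ← (C k).w, pullback.condition_assoc, Category.assoc, pullback.condition]))
      (by rw [pullback.lift_fst])
  have hmA : m ≫ A = pullback.snd _ _ := by
    apply pullback.hom_ext <;> simp [m, A, π', pullback.condition]
  have hm1 : pullback.fst (C k).π e (m q) = u := by
    rw [← Scheme.Hom.comp_apply, pullback.lift_fst, hq₁]
  have hv : e (π' (m q)) ∈ radLocus (C k).π := by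
    rw [← Scheme.Hom.comp_apply, ← pullback.condition, Scheme.Hom.comp_apply, hm1]
    exact hu
  have hAq : A (m q) = w := by rw [← Scheme.Hom.comp_apply, hmA, hq₂]
  have hclosed : IsClosed (π' '' (A ⁻¹' O)ᶜ) :=
    π'.isClosedMap _ (hO.preimage A.continuous).isClosed_compl
  have hNo : IsOpen (Set.range π' \ π' '' (A ⁻¹' O)ᶜ) := by
    refine IsOpen.inter ?_ hclosed.isOpen_compl
    rw [Scheme.Pullback.range_snd]
    exact hopen k
  have hmem : π' (m q) ∈ Set.range π' \ π' '' (A ⁻¹' O)ᶜ := by
    refine ⟨⟨m q, rfl⟩, fun ⟨p, hp, hpe⟩ => hp ?_⟩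
    rw [eq_of_mem_radLocus (C k).π e _ hv p (m q) hpe rfl]
    show A (m q) ∈ O
    rw [hAq]
    exact hwO
  refine mem_nhds_iff.mpr
    ⟨pullback.snd (g k) b '' (Set.range π' \ π' '' (A ⁻¹' O)ᶜ), ?_,
      (pullback.snd (g k) b).isOpenMap _ hNo, π' (m q), hmem, ?_⟩
  · rintro _ ⟨_, ⟨⟨p, rfl⟩, hp⟩, rfl⟩
    have hpO : A p ∈ O := by_contra fun h => hp ⟨p, h, rfl⟩
    have hcomp : A ≫ pullback.snd a b = π' ≫ pullback.snd (g k) b := pullback.lift_snd _ _ _
    have := hOsub hpO
    rw [Set.mem_preimage, ← Scheme.Hom.comp_apply, hcomp, Scheme.Hom.comp_apply] at this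
    exact this
  · rw [← hAq]
    exact (congrArg (fun h : _ ⟶ B => h (m q)) (pullback.lift_snd (pullback.fst (C k).π e ≫ (C k).a)
      (π' ≫ pullback.snd (g k) b) _ : A ≫ pullback.snd a b = π' ≫ pullback.snd (g k) b)).symm

end Groth.Agent.H8Props.UnivOpen
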