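import Groth.Agent.H8Props.UnivOpen.Chart
import Groth.Agent.H06EGA8.DescendLQF
import Groth.Agent.H28Top.Spectral

/-! Universal openness of locally quasi-finite morphisms descends to a stage. -/

set_option autoImplicit false
set_option backward.isDefEq.respectTransparency false
set_option backward.defeqAttrib.useBackward true
set_option linter.style.haveILetI false

universe u

open CategoryTheory Limits AlgebraicGeometry MorphismProperty TopologicalSpace Topology
open Groth.Agent.H7Lim Groth.Agent.H7Weight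

namespace Groth.Agent.H8Props.UnivOpen

variable {I : Type u} [Category.{u} I] [IsCofiltered I] {D : I ⥤ Scheme.{u}} {c : Cone D}
  [∀ (i j : I) (f : i ⟶ j), IsAffineHom (D.map f)]

/-- The image of a chart is open at some stage. -/
theorem exists_stage_isOpen (hc : IsLimit c) (i : I) [QuasiSeparatedSpace (D.obj i)]
    {T : Scheme.{u}} (a : T ⟶ D.obj i) [LocallyOfFinitePresentation a]
    (hu : UniversallyOpen (pullback.snd a (c.π.app i)))
    {V : Scheme.{u}} [IsAffine V] (g : V ⟶ D.obj i) [Etale g] (C : Chart a g) :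
    ∃ (j : I) (φ : j ⟶ i), IsOpen (pullback.fst g (D.map φ) ⁻¹' Set.range C.π) := by
  haveI : LocallyOfFinitePresentation C.π := C.lift_snd ▸ inferInstance
  have hlim : IsOpen (pullback.fst g (c.π.app i) ⁻¹' Set.range C.π) := by
    let e := pullback.fst g (c.π.app i)
    let C' := C.baseChange e
    haveI : UniversallyOpen (pullback.snd a (e ≫ g)) :=
      prop_snd_of_fac (P := @UniversallyOpen) (pullback.snd g (c.π.app i)) pullback.condition.symm hu
    haveI : UniversallyOpen C'.π := C'.lift_snd ▸ inferInstance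
    rw [← Scheme.Pullback.range_snd]
    exact C'.π.isOpenMap.isOpen_range
  let k₀ : Over i := Over.mk (𝟙 i)
  haveI : IsIso (D.map k₀.hom) := by dsimp [k₀]; infer_instance
  let p₀ := pullback.fst g (D.map k₀.hom)
  haveI : CompactSpace ↥((pbDiagram D i g).obj k₀) :=
    QuasiCompact.compactSpace_of_compactSpace p₀
  have hE : IsLocallyConstructible (p₀ ⁻¹' Set.range C.π) := by
    refine H7Lim.isLocallyConstructible_preimage ?_ p₀
    rw [← Set.image_univ]
    exact C.π.isLocallyConstructible_image .univ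
  have h1 : (pbCone D c i g).π.app k₀ ≫ p₀ = pullback.fst g (c.π.app i) := by simp [p₀, k₀, pbCone]
  obtain ⟨k, ψ, hk⟩ := exists_isOpen_preimage (isLimitPbCone D i g hc) (i := k₀)
    (V := Set.univ) isOpen_univ isCompact_univ hE (by
      rw [Set.univ_inter]
      show IsOpen (((pbCone D c i g).π.app k₀ ≫ p₀) ⁻¹' Set.range C.π)
      rw [h1]
      exact hlim)
  refine ⟨k.left, k.hom, ?_⟩
  have h2 : (pbDiagram D i g).map ψ ≫ p₀ = pullback.fst g (D.map k.hom) := by
    simp [p₀, k₀, pbDiagram]
  rw [Set.univ_inter] at hk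
  change IsOpen (((pbDiagram D i g).map ψ ≫ p₀) ⁻¹' Set.range C.π) at hk
  rw [h2] at hk
  exact hk

/-- The property of being locally quasi-finite of finite type and universally open. -/
abbrev QFOpen : MorphismProperty Scheme.{u} :=
  @LocallyQuasiFinite ⊓ @LocallyOfFiniteType ⊓ @UniversallyOpen

omit [IsCofiltered I] [∀ (i j : I) (f : i ⟶ j), IsAffineHom (D.map f)] in
theorem universallyOpen_snd_of_charts {i j : I} (φ : j ⟶ i) {T : Scheme.{u}} (a : T ⟶ D.obj i)
    {κ : Type*} (V : κ → Scheme.{u}) (g : ∀ k, V k ⟶ D.obj i) [∀ k, Etale (g k)]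
    (C : ∀ k, Chart a (g k))
    (hcov : ∀ t : T, ∃ k, t ∈ (C k).a '' ((C k).π ⁻¹' radLocus (C k).π))
    (hopen : ∀ k, IsOpen (pullback.fst (g k) (D.map φ) ⁻¹' Set.range (C k).π)) :
    UniversallyOpen (pullback.snd a (D.map φ)) := by
  rw [universallyOpen_iff]
  intro X' Y' i₁ h f' hsq
  have sq : IsPullback (i₁ ≫ pullback.fst a (D.map φ)) f' a (h ≫ D.map φ) :=
    hsq.flip.paste_horiz (IsPullback.of_hasPullback a (D.map φ))
  have hopen' : ∀ k, IsOpen (pullback.fst (g k) (h ≫ D.map φ) ⁻¹' Set.range (C k).π) := fun k => by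
    have : pullback.map (g k) (h ≫ D.map φ) (g k) (D.map φ) (𝟙 _) h (𝟙 _) (by simp) (by simp) ≫
        pullback.fst (g k) (D.map φ) = pullback.fst (g k) (h ≫ D.map φ) := by simp
    rw [← this, Scheme.Hom.comp_base, TopCat.coe_comp, Set.preimage_comp]
    exact (hopen k).preimage (Scheme.Hom.continuous _)
  have h' := isOpenMap_snd_of_charts (h ≫ D.map φ) V g C hcov hopen'
  change IsOpenMap f'
  rw [← sq.isoPullback_hom_snd, Scheme.Hom.comp_base, TopCat.coe_comp]
  exact h'.comp (Scheme.homeoOfIso sq.isoPullback).isOpenMap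

omit [IsCofiltered I] [∀ (i j : I) (f : i ⟶ j), IsAffineHom (D.map f)] in
theorem snd_stage_iso {i j j' : I} (φ : j ⟶ i) (ψ : j' ⟶ j) {T : Scheme.{u}} (a : T ⟶ D.obj i)
    (P : MorphismProperty Scheme.{u}) [P.RespectsIso] :
    P (pullback.snd (pullback.snd a (D.map φ)) (D.map ψ)) ↔ P (pullback.snd a (D.map (ψ ≫ φ))) := by
  refine prop_iff_of_isPullback (p := pullback.fst _ _ ≫ pullback.fst a (D.map φ)) ?_
  rw [D.map_comp]
  exact (IsPullback.of_hasPullback _ _).paste_horiz (IsPullback.of_hasPullback a (D.map φ))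

/-- Being locally quasi-finite and universally open descends to a stage. -/
theorem descendsAffine_qfOpen : DescendsAffine.{u} QFOpen @LocallyOfFinitePresentation := by
  intro I _ _ D c hc _ _ i₀ T₀ a₀ _ _ ha₀ hP
  haveI : LocallyOfFinitePresentation a₀ := ha₀
  obtain ⟨i, φ₀, hlqf⟩ := H06EGA8.descendsAffine_locallyQuasiFinite I D c hc i₀ a₀
    (inferInstanceAs (LocallyOfFiniteType a₀)) hP.1.1
  let a := pullback.snd a₀ (D.map φ₀)
  haveI : LocallyQuasiFinite a := hlqf
  haveI : CompactSpace ↥(pullback a₀ (D.map φ₀)) :=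
    QuasiCompact.compactSpace_of_compactSpace (pullback.fst a₀ (D.map φ₀))
  haveI : QuasiSeparatedSpace ↥(pullback a₀ (D.map φ₀)) :=
    quasiSeparatedSpace_of_quasiSeparated (pullback.fst a₀ (D.map φ₀))
  have hu : UniversallyOpen (pullback.snd a (c.π.app i)) := by
    refine (prop_iff_of_isPullback (P := @UniversallyOpen)
      (p := pullback.fst _ _ ≫ pullback.fst a₀ (D.map φ₀)) (b := c.π.app i₀) ?_).2 hP.2
    rw [← c.w φ₀]
    exact (IsPullback.of_hasPullback _ _).paste_horiz (IsPullback.of_hasPullback a₀ (D.map φ₀))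
  choose V hV g hg C hx using fun t : ↥(pullback a₀ (D.map φ₀)) => exists_chart (a := a) t
  have hcons : ∀ t, IsConstructible ((C t).a '' ((C t).π ⁻¹' radLocus (C t).π)) := fun t => by
    haveI : LocallyOfFinitePresentation (C t).π := (C t).lift_snd ▸ inferInstance
    haveI : CompactSpace (C t).U := QuasiCompact.compactSpace_of_compactSpace (C t).π
    refine (Scheme.Hom.isLocallyConstructible_image (C t).a
      (H7Lim.isLocallyConstructible_preimage (isLocallyConstructible_radLocus _) _)).isConstructible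
  obtain ⟨s, hs⟩ := @IsCompact.elim_finite_subcover ↥(pullback a₀ (D.map φ₀))
    (constructibleTopology _) _ _
    (@CompactSpace.isCompact_univ _ (constructibleTopology _) (H28Top.compactSpace_constr _))
    (fun t => (C t).a '' ((C t).π ⁻¹' radLocus (C t).π))
    (fun t => H28Top.isOpen_constr_of_isConstructible (hcons t))
    (fun t _ => Set.mem_iUnion.mpr ⟨t, hx t⟩)
  obtain ⟨j, φ, hj⟩ := exists_common_stage (κ := s) i
    (fun k j φ => IsOpen (pullback.fst (g k.1) (D.map φ) ⁻¹' Set.range (C k.1).π))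
    (fun k => exists_stage_isOpen hc i a hu (g k.1) (C k.1))
    (fun k {j j'} φ ψ h => by
      have : pullback.map (g k.1) (D.map (ψ ≫ φ)) (g k.1) (D.map φ) (𝟙 _) (D.map ψ) (𝟙 _)
          (by simp) (by simp) ≫ pullback.fst (g k.1) (D.map φ) =
          pullback.fst (g k.1) (D.map (ψ ≫ φ)) := by simp
      rw [← this, Scheme.Hom.comp_base, TopCat.coe_comp, Set.preimage_comp]
      exact h.preimage (Scheme.Hom.continuous _))
  have huj : UniversallyOpen (pullback.snd a (D.map φ)) :=
    universallyOpen_snd_of_charts φ a (fun k : s => V k.1) (fun k => g k.1) (fun k => C k.1)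
      (fun t => by
        obtain ⟨t', ht', h⟩ := Set.mem_iUnion₂.1 (hs (Set.mem_univ t))
        exact ⟨⟨t', ht'⟩, h⟩) hj
  refine ⟨j, φ ≫ φ₀, (snd_stage_iso φ₀ φ a₀ QFOpen).1 ⟨⟨?_, ?_⟩, huj⟩⟩
  · exact (inferInstance : LocallyQuasiFinite (pullback.snd a (D.map φ)))
  · exact (inferInstance : LocallyOfFiniteType (pullback.snd a (D.map φ)))

end Groth.Agent.H8Props.UnivOpen
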